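import Cfsg.Agent.H282.SK.Def
import Cfsg.Agent.KFacts.M24Two.Out
import Cfsg.Agent.H859.M24Eleven
import Cfsg.Prelude.Def_Spor_Mathieu

/-!
# S3010 (Sidki pairs), the sporadic row `M24` (helper95)

`w` (no fixed points) inverts an element of order 11, whose centraliser has odd order: the class of `w` is dead.
`z` (eight fixed points) inverts an element `x` of order 5, so some involution `u ∈ V` commutes with `x`; as
`5` does not divide `|C(z)| = 21504`, `u` is conjugate to `w`.
-/

set_option autoImplicit false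

universe u

open Subgroup Cfsg

namespace Cfsg.Agent.H95.SK

/-! ### transport -/

/-- If all automorphisms of `K` are inner then `G = K`. -/
theorem top_of_inner {G : Type u} [Group G] {K : Subgroup G} (hn : K.Normal) (hc : centralizer (K : Set G) = ⊥)
    (hin : ∀ α : MulAut K, ∃ k, α = MulAut.conj k) : K = ⊤ := by
  rw [eq_top_iff]
  intro g _
  obtain ⟨k, hk⟩ := hin (MulAut.conjNormal g)
  have h1 : (k : G)⁻¹ * g ∈ centralizer (K : Set G) := by
    rw [mem_centralizer_iff]
    intro x hx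
    have h2 := congrArg (fun f : MulAut K => ((f ⟨x, hx⟩ : K) : G)) hk
    simp only [MulAut.conjNormal_apply, MulAut.conj_apply, Subgroup.coe_mul, Subgroup.coe_inv] at h2
    -- `g x g⁻¹ = k x k⁻¹`
    calc x * ((k : G)⁻¹ * g) = (k : G)⁻¹ * (k * x * (k : G)⁻¹) * g := by group
      _ = (k : G)⁻¹ * (g * x * g⁻¹) * g := by rw [h2]
      _ = (k : G)⁻¹ * g * x := by group
  rw [hc, mem_bot, inv_mul_eq_one] at h1
  exact h1 ▸ k.2

/-- The Sidki property under an isomorphism. -/
theorem sidki_map {G : Type u} [Group G] {M : Type*} [Group M] (e : G ≃* M) {V : Subgroup G} (h : IsSidkiPair V) :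
    IsSidkiPair (V.map e.toMonoidHom) := by
  rintro x _ ⟨v, hv, rfl⟩ hx hinv
  obtain ⟨w, hw, hw1, hc⟩ := h (e.symm x) v hv (by
    rwa [show orderOf (e.symm x) = orderOf x from orderOf_injective e.symm.toMonoidHom e.symm.injective x]) (by
    apply e.injective
    rw [map_mul, map_mul, map_inv, map_inv, e.apply_symm_apply]
    exact hinv)
  refine ⟨e w, ⟨w, hw, rfl⟩, fun h1 => hw1 (e.injective (by rw [h1, map_one])), ?_⟩
  have := congrArg e hc
  rwa [map_mul, map_mul, e.apply_symm_apply] at this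

namespace M24

open Cfsg.Agent.SporadicA.GolayPerm Cfsg.Agent.SporadicStructure.M24El Cfsg.Agent.J4.M24InvolData Cfsg.Agent.J4.M24Invol
open Cfsg.Agent.KFacts.M24Two Cfsg.Agent.KFacts.M24Two.Count

/-- a packed involution -/
def Q5 : ℕ := 979625476934721158893090490322257958
/-- a packed involution -/
def Q11 : ℕ := 842804241348761958127684912710465644

theorem ok5 : ok Q5 = true := by decide +kernel
theorem ok11 : ok Q11 = true := by decide +kernel

/-- packed powers -/
def ppow (P : ℕ) : ℕ → ℕ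
  | 0 => idP
  | n + 1 => pcomp P (ppow P n)

theorem ok_ppow {P : ℕ} (h : ok P = true) (n : ℕ) : ok (ppow P n) = true := by
  induction n with
  | zero => exact ok_idP
  | succ n ih => exact ok_pcomp h ih

theorem el_ppow {P : ℕ} (h : ok P = true) (n : ℕ) : el (ppow P n) = el P ^ n := by
  induction n with
  | zero => rw [pow_zero]; exact el_idP
  | succ n ih =>
    show el (pcomp P (ppow P n)) = _
    rw [el_pcomp h (ok_ppow h n), ih, pow_succ']

theorem el_ne_one {P : ℕ} (hP : ok P = true) {i : ℕ} (hi : i < 24) (h : papp P i ≠ i) : el P ≠ 1 := by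
  intro h1
  have h2 := idx_el_smul hP (Cfsg.Agent.SporadicA.GolayBase.pt i)
  rw [h1, one_smul, Cfsg.Agent.SporadicA.GolayBase.idx_pt hi] at h2
  exact h h2.symm

/-- the product of two involutions is inverted by the first one -/
theorem inv_prod {G : Type*} [Group G] {a b : G} (ha : a * a = 1) (hb : b * b = 1) : a * (a * b) * a⁻¹ = (a * b)⁻¹ := by
  have h1 : a⁻¹ = a := inv_eq_of_mul_eq_one_right ha
  have h2 : b⁻¹ = b := inv_eq_of_mul_eq_one_right hb
  rw [mul_inv_rev, h1, h2, ← mul_assoc, ha, one_mul]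

theorem exists_five : ∃ x : M24, orderOf x = 5 ∧ z * x * z⁻¹ = x⁻¹ := by
  have : Fact (Nat.Prime 5) := ⟨by norm_num⟩
  have hok := ok_pcomp ok_P1 ok5
  have hb : el Q5 * el Q5 = 1 := by
    rw [← el_pcomp ok5 ok5, show pcomp Q5 Q5 = idP by decide +kernel, el_idP]
  refine ⟨z * el Q5, ?_, inv_prod zz hb⟩
  unfold z
  rw [← el_pcomp ok_P1 ok5]
  refine orderOf_eq_prime ?_ (el_ne_one hok (i := 0) (by norm_num) (by decide +kernel))
  rw [← el_ppow hok, show ppow (pcomp P1 Q5) 5 = idP by decide +kernel, el_idP]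

theorem exists_eleven : ∃ x : M24, orderOf x = 11 ∧ w * x * w⁻¹ = x⁻¹ := by
  have : Fact (Nat.Prime 11) := ⟨by norm_num⟩
  have hok := ok_pcomp ok_P2 ok11
  have hb : el Q11 * el Q11 = 1 := by
    rw [← el_pcomp ok11 ok11, show pcomp Q11 Q11 = idP by decide +kernel, el_idP]
  refine ⟨w * el Q11, ?_, inv_prod ww hb⟩
  unfold w
  rw [← el_pcomp ok_P2 ok11]
  refine orderOf_eq_prime ?_ (el_ne_one hok (i := 0) (by norm_num) (by decide +kernel))
  rw [← el_ppow hok, show ppow (pcomp P2 Q11) 11 = idP by decide +kernel, el_idP]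

/-- conjugation of an inverted element -/
theorem inv_of_conj {G : Type*} [Group G] {u v g x : G} (h : g * v * g⁻¹ = u) (hx : u * x * u⁻¹ = x⁻¹) :
    v * (g⁻¹ * x * g) * v⁻¹ = (g⁻¹ * x * g)⁻¹ := by
  have e : v = g⁻¹ * u * g := by rw [← h]; group
  calc v * (g⁻¹ * x * g) * v⁻¹ = g⁻¹ * (u * x * u⁻¹) * g := by rw [e]; group
    _ = _ := by rw [hx]; group

theorem orderOf_conj {G : Type*} [Group G] (g x : G) : orderOf (g⁻¹ * x * g) = orderOf x := by
  have h := orderOf_injective (MulAut.conj g⁻¹).toMonoidHom (MulAut.conj g⁻¹).injective x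
  have e : (MulAut.conj g⁻¹).toMonoidHom x = g⁻¹ * x * g := by simp
  rw [e] at h
  exact h

/-- **`M24` contains no Sidki pair.** -/
theorem eq_bot {V : Subgroup M24} (hsq : ∀ v ∈ V, v * v = 1) (hS : IsSidkiPair V) : V = ⊥ := by
  -- the class of `w` is dead
  have hw : ∀ v ∈ V, (∃ g : M24, g * v * g⁻¹ = w) → False := by
    rintro v hv ⟨g, hg⟩
    obtain ⟨x, hx, hi⟩ := exists_eleven
    have ho : orderOf (g⁻¹ * x * g) = 11 := by rw [orderOf_conj, hx]
    obtain ⟨u, hu, hu1, hc⟩ := hS (g⁻¹ * x * g) v hv (by rw [ho]; decide) (inv_of_conj hg hi)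
    apply Cfsg.Agent.H859.M24Eleven.not_two_dvd ho
    have h2 : orderOf u = 2 := orderOf_eq_prime (by rw [pow_two, hsq u hu]) hu1
    rw [← h2]
    exact Subgroup.orderOf_dvd_natCard _ (mem_centralizer_singleton_iff.2 hc)
  rw [Subgroup.eq_bot_iff_forall]
  intro v hv
  by_contra hv1
  rcases conj_or v (hsq v hv) hv1 with ⟨g, hg⟩ | h
  · obtain ⟨x, hx, hi⟩ := exists_five
    have ho : orderOf (g⁻¹ * x * g) = 5 := by rw [orderOf_conj, hx]
    obtain ⟨u, hu, hu1, hc⟩ := hS (g⁻¹ * x * g) v hv (by rw [ho]; decide) (inv_of_conj hg hi)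
    rcases conj_or u (hsq u hu) hu1 with ⟨k, hk⟩ | h
    · -- `5 ∣ |C(z)|`
      have h1 : k * (g⁻¹ * x * g) * k⁻¹ ∈ centralizer ({z} : Set M24) := by
        rw [mem_centralizer_singleton_iff, ← hk]
        calc k * (g⁻¹ * x * g) * k⁻¹ * (k * u * k⁻¹) = k * ((g⁻¹ * x * g) * u) * k⁻¹ := by group
          _ = k * (u * (g⁻¹ * x * g)) * k⁻¹ := by rw [hc]
          _ = _ := by group
      have h2 := Subgroup.orderOf_dvd_natCard _ h1
      have h3 : orderOf (k * (g⁻¹ * x * g) * k⁻¹) = 5 := by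
        have := orderOf_conj k⁻¹ (g⁻¹ * x * g)
        rw [inv_inv] at this
        rw [this, ho]
      rw [h3, Orders.card_centralizer_z] at h2
      norm_num at h2
    · exact hw u hu h
  · exact hw v hv h

/-- **The row `M24`.** -/
theorem dead : Cfsg.Agent.H282.SK.DeadS.{u} (fun K _ => Cfsg.Spor.IsoM24 K) := by
  rintro G _ _ V K h ⟨e⟩
  have hK : K = ⊤ := top_of_inner h.norm h.cent fun α => by
    obtain ⟨k, hk⟩ := Cfsg.Agent.KFacts.M24Two.Out.exists_conj ((MulAut.congr e) α)
    refine ⟨e.symm k, ?_⟩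
    ext x
    have h1 := congrArg (fun f : MulAut M24 => f (e x)) hk
    change e (α (e.symm (e x))) = k * e x * k⁻¹ at h1
    rw [e.symm_apply_apply] at h1
    have h2 : α x = MulAut.conj (e.symm k) x := by
      rw [MulAut.conj_apply]
      apply e.injective
      rw [h1, map_mul, map_mul, map_inv, e.apply_symm_apply]
    rw [h2]
  subst hK
  let f : G ≃* M24 := Subgroup.topEquiv.symm.trans e
  have h1 : V.map f.toMonoidHom = ⊥ := by
    apply eq_bot
    · rintro _ ⟨v, hv, rfl⟩
      rw [← map_mul, h.sq hv, map_one]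
    · exact sidki_map f h.sidki
  rw [Subgroup.map_eq_bot_iff_of_injective _ f.injective] at h1
  exact h.V_ne_bot h1

end M24

end Cfsg.Agent.H95.SK
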